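import Cfsg.Agent.Lib.Comp.Fast

set_option maxRecDepth 100000
set_option Elab.async false

namespace Cfsg.Lib.Comp.SuzX

universe u

def iv : ℕ → ℕ := (fun x => x)

noncomputable def R : List (List ℕ × ℕ) := [([1],1),
 ([2],1),
 ([3],1),
 ([4],1),
 ([5],1),
 ([1,2],4),
 ([1,3],1),
 ([1,4],1),
 ([1,5],1),
 ([2,3],2),
 ([2,4],1),
 ([2,5],1),
 ([3,4],7),
 ([3,5],1),
 ([4,5],2),
 ([1,4,3,4,3,4,3,4,3],0),
 ([2,3,4,3,4],4)]

def L : List ℕ := [1,2,3,4,5]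

end Cfsg.Lib.Comp.SuzX
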