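import Cfsg.Agent.Lib.Comp.SuzX.Base

set_option maxRecDepth 100000
set_option Elab.async false

namespace Cfsg.Lib.Comp.SuzX

universe u

noncomputable def T1_R : List (List ℕ × ℕ) := [([3],1),
 ([4],1),
 ([3,4],7)]

noncomputable def T1_n_3 : Net :=
 (Net.cons 4 (nat_lit 0x8)
 (Net.cons 2 (nat_lit 0x2)
 (Net.cons 1 (nat_lit 0x54)
 (Net.cons 2 (nat_lit 0x32)
 (Net.cons 4 (nat_lit 0x8)
 Net.nil)))))

noncomputable def T1_n_4 : Net :=
 (Net.cons 1 (nat_lit 0x55)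
 Net.nil)

noncomputable def T1_n : List Net := [Net.nil,
 Net.nil,
 Net.nil,
 T1_n_3,
 T1_n_4]

theorem T1_n_ok : NetsOK 8 T1_n := netsOK_of (by decide +kernel)

theorem T1_n_rel : Rels (gp T1_n) T1_R := rels_of_relsB (k := 3) T1_n_ok (by norm_num) (by decide +kernel)

theorem T1_fin : finB 8 T1_n [3,4] 8 (runH 8 T1_n (fun x p => ptInv (nth Net.nil T1_n x) p) iv T1_R [] ([3].map fun x => [x]) 0 []
  [1,0,4,8]
  (defsH 8 T1_n (ones 48) [4,3,4,3,4,3,4] (Nat.shiftLeft 1 0) 0)) = true := by decide +kernel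

theorem T1_idx : Idx.{u} iv (T1_R ++ []) ([3].map fun x => [x]) [3,4] 8 :=
  Reach.idx T1_n_ok (reach_runH T1_n_ok (fun x p _ => ptInv_gp T1_n_ok x p) T1_n_rel (reach_defsH T1_n_ok _ _ _ _ _ _) _ _) T1_fin (by norm_num)

end Cfsg.Lib.Comp.SuzX
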